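import Groth.Agent.Lib.AntiAff20.Kernel
import Groth.Agent.Lib.AntiAff20.Smooth
import Groth.Agent.Lib.AffGrp19.Main
import Groth.Agent.Lib.TorPts21.QuotientAffine
import Groth.Agent.Lib.BorelFix21.Stabilizer
import Groth.Agent.Lib.GrpDim20.Basic
import Groth.Agent.Lib.GrpUnr20.Basic
import Groth.Agent.Lib.GrpSmooth19.Basic
import Groth.Agent.Lib.FpqcDesc.Basic
import Groth.Agent.Lib.H12.FlatComp
import Groth.Agent.Lib.AbRigid.FlatFibre
import Groth.Agent.S3293
import Groth.Agent.S7520

/-!
# Images of affine algebraic groups are affine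
-/

universe u

set_option autoImplicit false
set_option linter.style.haveILetI false
set_option backward.isDefEq.respectTransparency.types false

open CategoryTheory Limits MonoidalCategory CartesianMonoidalCategory MonObj AlgebraicGeometry
open scoped CategoryTheory.Obj

noncomputable section

namespace Groth.Agent.AffQuot19

variable {k : Type u} [Field k]

/-- An affine group mapping onto an anti-affine group forces the latter to be trivial. -/
theorem isIso_hom_of_surjective_to_antiAffine [IsAlgClosed k] (P N : Over (Spec (CommRingCat.of k))) [GrpObj P]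
    [GrpObj N] [IsAffine P.left] [LocallyOfFiniteType P.hom] [LocallyOfFiniteType N.hom] [QuasiCompact N.hom]
    (hN : Function.Bijective (AffGrp19.structRing N).hom) (p : P ⟶ N) [IsMonHom p] [Flat p.left]
    [Surjective p.left] : IsIso N.hom := by
  haveI : IsLocallyNoetherian P.left := LocallyOfFiniteType.isLocallyNoetherian P.hom
  haveI : IsLocallyNoetherian N.left := LocallyOfFiniteType.isLocallyNoetherian N.hom
  haveI : LocallyOfFiniteType p.left := AlgGrpBasic19.lft_left p
  haveI : LocallyOfFinitePresentation p.left := VarDim.locallyOfFinitePresentation_of_locallyNoetherian p.left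
  obtain ⟨R, _, r, hr, hrc, hrs, hrred, hrsm⟩ := BorelFix21.exists_reduced_subgroup P
  haveI := hr; haveI := hrc; haveI := hrs; haveI := hrsm
  obtain ⟨R₀, _, j, hj, hjc, hjf, hjr, hji, -⟩ := S7520.result k R
  haveI := hj; haveI := hjc; haveI := hjf
  haveI : LocallyOfFiniteType R₀.hom := by rw [← Over.w j]; infer_instance
  haveI : IsLocallyNoetherian R.left := LocallyOfFiniteType.isLocallyNoetherian R.hom
  haveI : LocallyOfFinitePresentation j.left := VarDim.locallyOfFinitePresentation_of_locallyNoetherian j.left
  haveI : IsOpenImmersion j.left := IsOpenImmersion.of_flat_of_mono j.left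
  haveI : Smooth R₀.hom := by rw [← Over.w j]; infer_instance
  haveI : IsAffine R.left := isAffine_of_isAffineHom r.left
  haveI : IsAffine R₀.left := isAffine_of_isAffineHom j.left
  haveI : IrreducibleSpace R₀.left := GeometricallyIrreducible.irreducibleSpace_of_subsingleton R₀.hom
  haveI : ConnectedSpace R₀.left := inferInstance
  let f : R₀ ⟶ N := j ≫ r ≫ p
  haveI : IsMonHom f := inferInstanceAs (IsMonHom (j ≫ r ≫ p))
  haveI : ConnectedSpace N.left := (S3293.result k N hN).1
  haveI : QuasiCompact f.left := AlgGrpBasic19.quasiCompact_left f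
  haveI : Surjective f.left := by
    let i₀ := pullback.fst f η[N]
    obtain ⟨hcl, -⟩ := GrpDim20.range_closed_and_dim R₀ N _ f i₀ (by
      rw [toUnit_unique (toUnit _) (pullback.snd f η[N])]
      exact IsPullback.of_hasPullback f η[N])
    have hop : IsOpen (Set.range f.left) := by
      have hrh : IsHomeomorph r.left :=
        isHomeomorph_iff_isEmbedding_surjective.2 ⟨r.left.isClosedEmbedding.isEmbedding, r.left.surjective⟩
      have : Set.range f.left = p.left '' (r.left '' Set.range j.left) := by
        show Set.range (j.left ≫ r.left ≫ p.left) = _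
        rw [Scheme.Hom.comp_base, TopCat.coe_comp, Scheme.Hom.comp_base, TopCat.coe_comp, Set.range_comp,
          Set.image_comp]
      rw [this]
      exact p.left.isOpenMap _ (hrh.isOpenMap _ j.left.isOpenEmbedding.isOpen_range)
    have hne : (Set.range f.left).Nonempty := ⟨_, η[R₀].left (IsLocalRing.closedPoint k), rfl⟩
    exact ⟨Set.range_eq_univ.1 (IsClopen.eq_univ ⟨hcl, hop⟩ hne)⟩
  haveI : Smooth N.hom := AntiAff20.smooth_of_antiAffine N hN
  haveI : IsReduced N.left := AbRigid.isReduced_of_smooth_over_field N.hom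
  haveI : Flat f.left := AbRigid.flat_of_surjective_of_isReduced R₀ N f
  haveI : IsAffine N.left := TorPts21.isAffine_of_surjective_hom f
  haveI : IsIso (AffGrp19.structRing N) := (ConcreteCategory.isIso_iff_bijective _).mpr hN
  have e : N.hom = N.left.isoSpec.hom ≫ Spec.map (AffGrp19.structRing N) := by
    apply ext_of_isAffine
    simp [AffGrp19.structRing, Scheme.isoSpec_hom]
  rw [e]
  infer_instance

/-- The image of an affine algebraic group is affine. -/
theorem isAffine_target_of_isAlgClosed [IsAlgClosed k] (G Q : Over (Spec (CommRingCat.of k))) [GrpObj G] [GrpObj Q]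
    [IsAffine G.left] [LocallyOfFiniteType G.hom] [LocallyOfFiniteType Q.hom] [QuasiCompact Q.hom]
    (q : G ⟶ Q) [IsMonHom q] [Flat q.left] [Surjective q.left] : IsAffine Q.left := by
  haveI : QuasiSeparated Q.hom := AlgGrpBasic19.quasiSeparatedSpace
  haveI : LocallyOfFiniteType (AffGrp19.toAff Q).left := AffGrp19.lft_toAff Q
  set t := AffGrp19.toAff Q
  set N := pullback t η[AffGrp19.aff Q]
  set i : N ⟶ Q := pullback.fst t η[AffGrp19.aff Q]
  have hi : IsPullback i (toUnit N) t η[AffGrp19.aff Q] := by
    rw [toUnit_unique (toUnit N) (pullback.snd t η[AffGrp19.aff Q])]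
    exact IsPullback.of_hasPullback t η[AffGrp19.aff Q]
  obtain ⟨_, hNl, hNq, hNb⟩ := AntiAff20.exists_antiAffine_kernel Q
  obtain ⟨iN, hiN⟩ := GrpDim20.exists_grpObj_kernel t i hi
  letI := iN
  haveI : LocallyOfFiniteType N.hom := hNl
  haveI : QuasiCompact N.hom := hNq
  set P := pullback q i
  set ι' : P ⟶ G := pullback.fst q i
  set p : P ⟶ N := pullback.snd q i
  have hsq : IsPullback ι' p q i := IsPullback.of_hasPullback q i
  have hP : IsPullback ι' (toUnit P) (q ≫ t) η[AffGrp19.aff Q] := by
    rw [toUnit_unique (toUnit P) (p ≫ toUnit N)]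
    exact hsq.paste_vert hi
  obtain ⟨_, hι'⟩ := GrpDim20.exists_grpObj_kernel (q ≫ t) ι' hP
  haveI : IsClosedImmersion η[AffGrp19.aff Q].left :=
    isClosedImmersion_of_comp_eq_id (AffGrp19.aff Q).hom _ (Over.w η[AffGrp19.aff Q])
  haveI : IsClosedImmersion ι'.left :=
    MorphismProperty.of_isPullback (hP.map (Over.forget _)).flip ‹IsClosedImmersion η[AffGrp19.aff Q].left›
  haveI : IsAffine P.left := isAffine_of_isAffineHom ι'.left
  haveI : LocallyOfFiniteType P.hom := by rw [← Over.w ι']; infer_instance
  haveI : IsClosedImmersion i.left :=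
    MorphismProperty.of_isPullback (hi.map (Over.forget _)).flip ‹IsClosedImmersion η[AffGrp19.aff Q].left›
  haveI : Mono i := Over.mono_of_mono_left i
  haveI : IsMonHom p := ⟨by
      rw [← cancel_mono i, Category.assoc, IsMonHom.one_hom i, show p ≫ i = ι' ≫ q from hsq.w.symm,
        ← Category.assoc, IsMonHom.one_hom ι', IsMonHom.one_hom q], by
      rw [← cancel_mono i, Category.assoc, Category.assoc, show p ≫ i = ι' ≫ q from hsq.w.symm,
        IsMonHom.mul_hom i, IsMonHom.mul_hom_assoc (f := ι'), IsMonHom.mul_hom q,
        MonoidalCategory.tensorHom_comp_tensorHom_assoc, MonoidalCategory.tensorHom_comp_tensorHom_assoc,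
        show p ≫ i = ι' ≫ q from hsq.w.symm]⟩
  haveI : Flat p.left := MorphismProperty.of_isPullback (hsq.map (Over.forget _)) ‹Flat q.left›
  haveI : Surjective p.left := MorphismProperty.of_isPullback (hsq.map (Over.forget _)) ‹Surjective q.left›
  haveI := isIso_hom_of_surjective_to_antiAffine P N hNb p
  haveI : LocallyQuasiFinite t.left :=
    GrpUnr20.locallyQuasiFinite_of_kernel t i hi inferInstance
  exact AffGrp19.isAffine_of_locallyQuasiFinite Q

/-- The image of an affine algebraic group is affine. -/
theorem isAffine_target (G Q : Over (Spec (CommRingCat.of k))) [GrpObj G] [GrpObj Q]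
    [IsAffine G.left] [LocallyOfFiniteType G.hom] [LocallyOfFiniteType Q.hom] [QuasiCompact Q.hom]
    (q : G ⟶ Q) [IsMonHom q] [Flat q.left] [Surjective q.left] : IsAffine Q.left := by
  let φ := Spec.map (CommRingCat.ofHom (algebraMap k (AlgebraicClosure k)))
  let F := Over.pullback φ
  letI : GrpObj (F.obj G) := Functor.grpObjObj
  letI : GrpObj (F.obj Q) := Functor.grpObjObj
  haveI : LocallyOfFiniteType (F.obj G).hom := inferInstanceAs (LocallyOfFiniteType (pullback.snd G.hom φ))
  haveI : LocallyOfFiniteType (F.obj Q).hom := inferInstanceAs (LocallyOfFiniteType (pullback.snd Q.hom φ))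
  haveI : QuasiCompact (F.obj Q).hom := inferInstanceAs (QuasiCompact (pullback.snd Q.hom φ))
  haveI : IsAffineHom G.hom := isAffineHom_of_isAffine _
  haveI : IsAffineHom (F.obj G).hom := inferInstanceAs (IsAffineHom (pullback.snd G.hom φ))
  haveI : IsAffine (F.obj G).left := isAffine_of_isAffineHom (F.obj G).hom
  haveI : Flat (F.map q).left := MorphismProperty.of_isPullback (GrpFin20.isPullback_map φ q) ‹Flat q.left›
  haveI : Surjective (F.map q).left := MorphismProperty.of_isPullback (GrpFin20.isPullback_map φ q) ‹Surjective q.left›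
  haveI := isAffine_target_of_isAlgClosed (F.obj G) (F.obj Q) (F.map q)
  have h : IsAffineHom (pullback.snd Q.hom φ) := isAffineHom_of_isAffine (F.obj Q).hom
  haveI := FpqcDesc.descendsAlong_isAffineHom.{u}
  haveI : IsAffineHom Q.hom := MorphismProperty.of_pullback_snd_of_descendsAlong
    (Q := @Surjective ⊓ @Flat ⊓ @QuasiCompact) (g := φ) ⟨⟨inferInstance, inferInstance⟩, inferInstance⟩ h
  exact isAffine_of_isAffineHom Q.hom

/-- The image of a smooth algebraic group is smooth. -/
theorem smooth_target (G Q : Over (Spec (CommRingCat.of k))) [GrpObj G] [GrpObj Q]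
    [Smooth G.hom] [LocallyOfFiniteType Q.hom] (q : G ⟶ Q) [Flat q.left] [Surjective q.left] : Smooth Q.hom := by
  let φ := Spec.map (CommRingCat.ofHom (algebraMap k (AlgebraicClosure k)))
  let F := Over.pullback φ
  haveI : Smooth (F.obj G).hom := inferInstanceAs (Smooth (pullback.snd G.hom φ))
  haveI : IsReduced (F.obj G).left := AbRigid.isReduced_of_smooth_over_field (F.obj G).hom
  haveI : Flat (F.map q).left := MorphismProperty.of_isPullback (GrpFin20.isPullback_map φ q) ‹Flat q.left›
  haveI : Surjective (F.map q).left := MorphismProperty.of_isPullback (GrpFin20.isPullback_map φ q) ‹Surjective q.left›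
  haveI : IsReduced (pullback Q.hom φ) := H12.isReduced_of_flat_surjective (F.map q).left
  exact GrpSmooth19.smooth_of_isReduced_baseChange Q (AlgebraicClosure k)

end Groth.Agent.AffQuot19
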